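import Mathlib.RingTheory.LocalRing.Module
import Mathlib.RingTheory.Flat.Equalizer
import Mathlib.RingTheory.Flat.Tensor
import Mathlib.RingTheory.Filtration
import Mathlib.RingTheory.LocalRing.RingHom.Basic
import Mathlib.LinearAlgebra.Matrix.ToLin
import Mathlib.LinearAlgebra.Basis.VectorSpace
import Mathlib.RingTheory.Ideal.Maps

/-!
# Injectivity modulo the maximal ideal, for maps into flat modules
-/

universe u

namespace GrothLib.Flatness

open TensorProduct Function IsLocalRing

variable {R : Type u} [CommRing R] {M N : Type u} [AddCommGroup M] [Module R M]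
  [AddCommGroup N] [Module R N]

theorem rid_lTensor_mem (J : Ideal R) (y : M ⊗[R] J) :
    TensorProduct.rid R M (J.subtype.lTensor M y) ∈ J • (⊤ : Submodule R M) := by
  induction y using TensorProduct.induction_on with
  | zero => simp
  | add a b ha hb => simp only [map_add]; exact add_mem ha hb
  | tmul m a =>
    simp only [LinearMap.lTensor_tmul, TensorProduct.rid_tmul]
    exact Submodule.smul_mem_smul a.2 trivial

theorem exists_rid_lTensor_eq (J : Ideal R) {x : M} (hx : x ∈ J • (⊤ : Submodule R M)) :
    ∃ y : M ⊗[R] J, TensorProduct.rid R M (J.subtype.lTensor M y) = x := by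
  refine Submodule.smul_induction_on hx ?_ ?_
  · intro a ha m _
    exact ⟨m ⊗ₜ ⟨a, ha⟩, by simp⟩
  · rintro a b ⟨y, rfl⟩ ⟨z, rfl⟩
    exact ⟨y + z, by simp⟩

theorem one_tmul_eq_zero_iff (I : Ideal R) (x : M) :
    (1 : R ⧸ I) ⊗ₜ[R] x = 0 ↔ x ∈ I • (⊤ : Submodule R M) := by
  have h := TensorProduct.quotTensorEquivQuotSMul_mk_tmul I (1 : R) x
  rw [one_smul, map_one] at h
  rw [← (TensorProduct.quotTensorEquivQuotSMul M I).map_eq_zero_iff, h,
    Submodule.Quotient.mk_eq_zero]

/-- If `u : N → M` reflects `J M` for all ideals `J`, with `M` flat, then `u` is injective with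
flat cokernel, hence universally injective. -/
theorem flat_coker_of_forall_mem [Module.Flat R M] (u : N →ₗ[R] M)
    (h : ∀ (J : Ideal R) (x : N), u x ∈ J • (⊤ : Submodule R M) → x ∈ J • (⊤ : Submodule R N)) :
    Injective u ∧ Module.Flat R (M ⧸ LinearMap.range u) ∧
      ∀ (Q : Type u) [AddCommGroup Q] [Module R Q], Injective (u.lTensor Q) := by
  have hinj : Injective u := by
    rw [injective_iff_map_eq_zero]
    intro x hx
    simpa using h ⊥ x (by rw [hx]; exact zero_mem _)
  have hflat : Module.Flat R (M ⧸ LinearMap.range u) := by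
    rw [Module.Flat.iff_lTensor_injective']
    intro J
    rw [injective_iff_map_eq_zero]
    intro x hx
    obtain ⟨y, rfl⟩ := LinearMap.rTensor_surjective J (LinearMap.range u).mkQ_surjective x
    have key : ∀ (z : M ⊗[R] J), TensorProduct.rid R _ (J.subtype.lTensor _
        ((LinearMap.range u).mkQ.rTensor J z)) =
        (LinearMap.range u).mkQ (TensorProduct.rid R M (J.subtype.lTensor M z)) := fun z => by
      induction z using TensorProduct.induction_on with
      | zero => simp
      | add a b ha hb => simp only [map_add, ha, hb]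
      | tmul m a => simp
    have h0 : TensorProduct.rid R M (J.subtype.lTensor M y) ∈ LinearMap.range u := by
      rw [← Submodule.Quotient.mk_eq_zero, ← Submodule.mkQ_apply, ← key, hx, map_zero]
    obtain ⟨v, hv⟩ := h0
    obtain ⟨w, hw⟩ := exists_rid_lTensor_eq J (h J v (hv ▸ rid_lTensor_mem J y))
    have key2 : ∀ z : N ⊗[R] J, TensorProduct.rid R M (J.subtype.lTensor M (u.rTensor J z)) =
        u (TensorProduct.rid R N (J.subtype.lTensor N z)) := fun z => by
      induction z using TensorProduct.induction_on with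
      | zero => simp
      | add a b ha hb => simp only [map_add, ha, hb]
      | tmul m a => simp
    have : y = u.rTensor J w := by
      apply Module.Flat.lTensor_preserves_injective_linearMap J.subtype J.injective_subtype
      apply (TensorProduct.rid R M).injective
      rw [key2, hw, hv]
    rw [this, ← LinearMap.rTensor_comp_apply, (LinearMap.exact_map_mkQ_range u).linearMap_comp_eq_zero,
      LinearMap.rTensor_zero, LinearMap.zero_apply]
  refine ⟨hinj, hflat, fun Q _ _ => ?_⟩
  haveI := hflat
  exact LinearMap.lTensor_injective_of_exact_of_flat _ (LinearMap.range u).mkQ_surjective u hinj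
    (LinearMap.exact_map_mkQ_range u) Q

/-- A family in a flat module which is independent modulo the maximal ideal spans a "pure"
submodule. -/
theorem mem_smul_top_of_linearIndependent [IsLocalRing R] [Module.Flat R M] {ι : Type u}
    (v : ι → M) (hv : LinearIndependent (ResidueField R) (TensorProduct.mk R (ResidueField R) M 1 ∘ v))
    (J : Ideal R) (a : ι →₀ R) (ha : Finsupp.linearCombination R v a ∈ J • (⊤ : Submodule R M)) :
    ∀ i, a i ∈ J := by
  intro i
  rcases eq_or_ne J ⊤ with rfl | hJ
  · trivial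
  haveI : Nontrivial (R ⧸ J) := Ideal.Quotient.nontrivial_iff.mpr hJ
  haveI : IsLocalRing (R ⧸ J) := IsLocalRing.of_surjective' _ Ideal.Quotient.mk_surjective
  classical
  -- induction-free: use the criterion for `R/J`
  let M' := (R ⧸ J) ⊗[R] M
  let v' : ι → M' := fun i => 1 ⊗ₜ v i
  have hli : LinearIndependent (R ⧸ J) v' := by
    apply Module.IsLocalRing.linearIndependent_of_flat
    haveI : IsLocalHom (Ideal.Quotient.mk J) :=
      IsLocalHom.of_surjective _ Ideal.Quotient.mk_surjective
    let σ : ResidueField R →+* ResidueField (R ⧸ J) := ResidueField.map (Ideal.Quotient.mk J)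
    have hσ : Surjective σ := fun x => by
      obtain ⟨x, rfl⟩ := residue_surjective x
      obtain ⟨x, rfl⟩ := Ideal.Quotient.mk_surjective x
      exact ⟨residue R x, rfl⟩
    let σe : ResidueField R ≃+* ResidueField (R ⧸ J) :=
      RingEquiv.ofBijective σ ⟨σ.injective, hσ⟩
    let σl : ResidueField (R ⧸ J) →ₗ[R] ResidueField R :=
      { toFun := σe.symm
        map_add' := map_add σe.symm
        map_smul' := fun r x => by
          apply σe.injective
          simp only [RingHom.id_apply, RingEquiv.apply_symm_apply, Algebra.smul_def, map_mul]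
          rfl }
    let φ : (ResidueField (R ⧸ J)) ⊗[R ⧸ J] M' →ₗ[R] ResidueField R ⊗[R] M :=
      (σl.rTensor M) ∘ₗ ((AlgebraTensorModule.cancelBaseChange R (R ⧸ J) (R ⧸ J)
        (ResidueField (R ⧸ J)) M).restrictScalars R).toLinearMap
    have hφ : ∀ i, φ ((1 : ResidueField (R ⧸ J)) ⊗ₜ[R ⧸ J] v' i) =
        (1 : ResidueField R) ⊗ₜ[R] v i := fun i => by
      simp only [φ, v', LinearMap.comp_apply, LinearEquiv.coe_coe, LinearEquiv.restrictScalars_apply]
      rw [AlgebraTensorModule.cancelBaseChange_tmul, one_smul, LinearMap.rTensor_tmul]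
      exact congrArg (fun z => z ⊗ₜ[R] v i) (map_one σe.symm)
    rw [linearIndependent_iff'ₛ]
    intro s f g hfg j hj
    apply σe.symm.injective
    refine linearIndependent_iff'ₛ.mp hv s (fun j => σe.symm (f j)) (fun j => σe.symm (g j)) ?_ j hj
    have hsm : ∀ (c : ResidueField (R ⧸ J)) (j : ι),
        φ (c • (1 : ResidueField (R ⧸ J)) ⊗ₜ[R ⧸ J] v' j) = σe.symm c • (1 : ResidueField R) ⊗ₜ[R] v j :=
      fun c j => by
        rw [TensorProduct.smul_tmul', TensorProduct.smul_tmul', smul_eq_mul, mul_one, smul_eq_mul,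
          mul_one]
        simp only [φ, v', LinearMap.comp_apply, LinearEquiv.coe_coe, LinearEquiv.restrictScalars_apply]
        rw [AlgebraTensorModule.cancelBaseChange_tmul, one_smul, LinearMap.rTensor_tmul]
        rfl
    have := congrArg φ hfg
    simpa [map_sum, Function.comp_def, hsm] using this
  have h0 : Finsupp.linearCombination (R ⧸ J) v' (a.mapRange (Ideal.Quotient.mk J) (map_zero _)) = 0 := by
    have h1 : (1 : R ⧸ J) ⊗ₜ[R] Finsupp.linearCombination R v a = 0 :=
      (one_tmul_eq_zero_iff J _).mpr ha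
    rw [Finsupp.linearCombination_apply, Finsupp.sum_mapRange_index]
    swap
    · exact fun _ => zero_smul _ _
    rw [Finsupp.linearCombination_apply, Finsupp.sum, tmul_sum] at h1
    rw [Finsupp.sum]
    refine Eq.trans (Finset.sum_congr rfl fun j _ => ?_) h1
    rw [tmul_smul]
    exact IsScalarTower.algebraMap_smul (R ⧸ J) (a j) (v' j)
  have := DFunLike.congr_fun (linearIndependent_iff.mp hli _ h0) i
  exact Ideal.Quotient.eq_zero_iff_mem.mp (by simpa using this)

/-- A (von Neumann) generalized inverse of a matrix over a field. -/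
theorem exists_genInverse {k : Type u} [Field k] {α β : Type*} [Fintype α] [Fintype β]
    (C : Matrix α β k) : ∃ G : Matrix β α k, C * G * C = C := by
  classical
  let f := Matrix.toLin' C
  obtain ⟨g₀, hg₀⟩ := f.rangeRestrict.exists_rightInverse_of_surjective
    (LinearMap.range_rangeRestrict f)
  obtain ⟨g, hg⟩ := LinearMap.exists_extend g₀
  refine ⟨LinearMap.toMatrix' g, Matrix.toLin'.injective ?_⟩
  rw [Matrix.toLin'_mul, Matrix.toLin'_mul, Matrix.toLin'_toMatrix']
  refine LinearMap.ext fun x => ?_
  show f (g (f x)) = f x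
  have h1 : g (f x) = g₀ (f.rangeRestrict x) := LinearMap.congr_fun hg (f.rangeRestrict x)
  rw [h1]
  exact congrArg Subtype.val (LinearMap.congr_fun hg₀ (f.rangeRestrict x))

/-- One step: `u b ∈ J M` with `b = Σ aᵢ yᵢ` forces `b ∈ J N + Σ aᵢ 𝔪 N`. -/
theorem sum_smul_mem_of_map_mem [IsLocalRing R] [Module.Flat R M] (u : N →ₗ[R] M)
    (hu : Injective (u.lTensor (ResidueField R))) (J : Ideal R) {ι : Type u} [Fintype ι]
    (a : ι → R) (y : ι → N) (h : ∑ i, a i • u (y i) ∈ J • (⊤ : Submodule R M))
    (I : Ideal R) (ha : ∀ i, a i ∈ I) :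
    ∑ i, a i • y i ∈ J • (⊤ : Submodule R N) ⊔ (I * maximalIdeal R) • (⊤ : Submodule R N) := by
  classical
  rcases eq_or_ne J ⊤ with rfl | hJ
  · exact Submodule.mem_sup_left (by simp)
  have hrel : ∑ i, Ideal.Quotient.mk J (a i) • ((1 : R ⧸ J) ⊗ₜ[R] u (y i)) = 0 := by
    have h1 := (one_tmul_eq_zero_iff J _).mpr h
    rw [tmul_sum] at h1
    refine Eq.trans (Finset.sum_congr rfl fun i _ => ?_) h1
    rw [tmul_smul]
    exact IsScalarTower.algebraMap_smul (R ⧸ J) (a i) _
  obtain ⟨l, cbar, z, hyz, hac⟩ := Module.Flat.isTrivialRelation_of_sum_smul_eq_zero hrel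
  choose c hc using fun i j => Ideal.Quotient.mk_surjective (cbar i j)
  let C : Matrix ι (Fin l) (ResidueField R) := fun i j => residue R (c i j)
  obtain ⟨G, hG⟩ := exists_genInverse C
  choose g hg using fun j i => residue_surjective (G j i)
  let p : ι → ι → R := fun i i' => ∑ j, c i j * g j i'
  -- reduction to the residue field
  let π : (R ⧸ J) ⊗[R] M →ₗ[R] ResidueField R ⊗[R] M :=
    (Submodule.mapQ J (maximalIdeal R) LinearMap.id (le_maximalIdeal hJ)).rTensor M
  have hπ : ∀ (r : R) (m : (R ⧸ J) ⊗[R] M), π (Ideal.Quotient.mk J r • m) = r • π m := fun r m => by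
    rw [← map_smul]
    congr 1
  have hu1 : ∀ i, u.lTensor (ResidueField R) (1 ⊗ₜ y i) = ∑ j, C i j • π (z j) := fun i => by
    have h1 := congrArg π (hyz i)
    rw [map_sum] at h1
    refine Eq.trans ?_ (Eq.trans h1 (Finset.sum_congr rfl fun j _ => ?_))
    · rw [LinearMap.lTensor_tmul]; rfl
    · rw [← hc i j, hπ]
      exact (IsScalarTower.algebraMap_smul (ResidueField R) (c i j) _).symm
  have hP : ∀ i, (1 : ResidueField R) ⊗ₜ[R] (y i - ∑ i', p i i' • y i') = 0 := fun i => by
    apply hu
    rw [map_zero, tmul_sub, tmul_sum, map_sub, map_sum, sub_eq_zero, hu1]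
    have h2 : ∀ i', u.lTensor (ResidueField R) ((1 : ResidueField R) ⊗ₜ[R] (p i i' • y i')) =
        (C * G) i i' • ∑ j, C i' j • π (z j) := fun i' => by
      rw [tmul_smul, map_smul, hu1, ← IsScalarTower.algebraMap_smul (ResidueField R) (p i i')]
      congr 1
      rw [Matrix.mul_apply, ResidueField.algebraMap_eq]
      simp only [p, map_sum, map_mul, hg]
      rfl
    simp only [h2, Finset.smul_sum, smul_smul]
    rw [Finset.sum_comm]
    refine Finset.sum_congr rfl fun j _ => ?_
    rw [← Finset.sum_smul]
    congr 1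
    exact (congrFun (congrFun hG i) j).symm.trans (Matrix.mul_apply ..)
  have key : ∑ i, a i • y i = ∑ i, a i • (y i - ∑ i', p i i' • y i') +
      ∑ j, (∑ i, a i * c i j) • (∑ i', g j i' • y i') := by
    simp only [smul_sub, Finset.sum_sub_distrib]
    rw [eq_comm, sub_add_eq_add_sub, sub_eq_iff_eq_add]
    congr 1
    simp only [p, Finset.sum_smul, Finset.smul_sum, smul_smul, Finset.mul_sum, Finset.sum_mul,
      mul_assoc]
    exact Finset.sum_comm.trans
      ((Finset.sum_congr rfl fun i _ => Finset.sum_comm).trans Finset.sum_comm)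
  rw [key]
  refine add_mem (Submodule.sum_mem _ fun i _ => Submodule.mem_sup_right ?_)
    (Submodule.sum_mem _ fun j _ => Submodule.mem_sup_left ?_)
  · have hm : y i - ∑ i', p i i' • y i' ∈ maximalIdeal R • (⊤ : Submodule R N) :=
      (one_tmul_eq_zero_iff _ _).mp (hP i)
    rw [Submodule.mul_smul]
    exact Submodule.smul_mem_smul (ha i) hm
  · refine Submodule.smul_mem_smul ?_ trivial
    rw [← Ideal.Quotient.eq_zero_iff_mem, map_sum]
    simpa [map_mul, hc] using hac j

theorem exists_sum_smul_of_mem {I : Ideal R} {x : N} (hx : x ∈ I • (⊤ : Submodule R N)) :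
    ∃ (ι : Type u) (_ : Fintype ι) (a : ι → R) (y : ι → N), (∀ i, a i ∈ I) ∧ ∑ i, a i • y i = x := by
  rw [show (⊤ : Submodule R N) = Submodule.span R (Set.range (id : N → N)) by simp] at hx
  obtain ⟨a, ha, hax⟩ := (Submodule.mem_ideal_smul_span_iff_exists_sum I id x).mp hx
  refine ⟨a.support, inferInstance, fun i => a i, fun i => i, fun i => ha i, ?_⟩
  rw [← hax]
  exact Finset.sum_coe_sort a.support (fun i => a i • i)

variable {S : Type u} [CommRing S] [Algebra R S] [Module S N] [IsScalarTower R S N]

/-- Injectivity modulo `𝔪` for a map from a finite module over a Noetherian local `S` into a flat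
module: the map reflects `J M` for all ideals `J`. -/
theorem mem_smul_top_of_map_mem [IsLocalRing R] [IsLocalRing S] [IsNoetherianRing S]
    [IsLocalHom (algebraMap R S)] [Module.Finite S N] [Module.Flat R M] (u : N →ₗ[R] M)
    (hu : Injective (u.lTensor (ResidueField R))) (J : Ideal R) (x : N)
    (hx : u x ∈ J • (⊤ : Submodule R M)) : x ∈ J • (⊤ : Submodule R N) := by
  have hn : ∀ n : ℕ, x ∈ J • (⊤ : Submodule R N) ⊔ maximalIdeal R ^ n • (⊤ : Submodule R N) := by
    intro n
    induction n with
    | zero =>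
      rw [pow_zero, Ideal.one_eq_top, Submodule.top_smul]
      exact Submodule.mem_sup_right trivial
    | succ n ih =>
      obtain ⟨a, ha, b, hb, rfl⟩ := Submodule.mem_sup.mp ih
      have hua : u a ∈ J • (⊤ : Submodule R M) :=
        Submodule.smul_top_le_comap_smul_top J u ha
      have hub : u b ∈ J • (⊤ : Submodule R M) := by
        rw [map_add] at hx
        simpa using sub_mem hx hua
      obtain ⟨ι, _, c, y, hc, rfl⟩ := exists_sum_smul_of_mem hb
      refine add_mem (Submodule.mem_sup_left ha) ?_
      rw [pow_succ]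
      exact sum_smul_mem_of_map_mem u hu J c y (by simpa [map_sum] using hub) _ hc
  let P : Submodule S N := J.map (algebraMap R S) • ⊤
  have hP : ∀ I : Ideal R, (I.map (algebraMap R S) • (⊤ : Submodule S N)).restrictScalars R =
      I • (⊤ : Submodule R N) := fun I => (Ideal.smul_restrictScalars I ⊤).trans rfl
  suffices H : P.mkQ x ∈ (⨅ i : ℕ, (maximalIdeal R).map (algebraMap R S) ^ i • ⊤ :
      Submodule S (N ⧸ P)) by
    rw [Ideal.iInf_pow_smul_eq_bot_of_isLocalRing _ ?_, Submodule.mem_bot] at H
    · rw [← hP J]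
      exact (Submodule.Quotient.mk_eq_zero P).mp H
    · intro h
      have hle : (maximalIdeal R).map (algebraMap R S) ≤ maximalIdeal S :=
        ((local_hom_TFAE (algebraMap R S)).out 0 2).mp ‹IsLocalHom (algebraMap R S)›
      rw [h] at hle
      exact (maximalIdeal.isMaximal S).ne_top (top_le_iff.mp hle)
  rw [Submodule.mem_iInf]
  intro n
  obtain ⟨a, ha, b, hb, rfl⟩ := Submodule.mem_sup.mp (hn n)
  rw [map_add]
  have h1 : P.mkQ a = 0 := (Submodule.Quotient.mk_eq_zero P).mpr (by rw [← hP J] at ha; exact ha)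
  rw [h1, zero_add, ← Ideal.map_pow]
  have h2 : b ∈ (maximalIdeal R ^ n).map (algebraMap R S) • (⊤ : Submodule S N) := by
    rw [← hP] at hb; exact hb
  exact Submodule.smul_top_le_comap_smul_top _ P.mkQ h2

end GrothLib.Flatness
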