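import Groth.Agent.Lib.Flatness.Criterion
import Mathlib.RingTheory.Flat.FaithfullyFlat.Basic
import Mathlib.RingTheory.LocalRing.RingHom.Basic
import Mathlib.RingTheory.LocalRing.Module
import Mathlib.RingTheory.Nakayama

/-!
# Fibre criterion of flatness
-/

universe u

namespace GrothLib.Flatness

open TensorProduct Function IsLocalRing

variable {R S M : Type u} [CommRing R] [CommRing S] [Algebra R S] [AddCommGroup M] [Module R M]
  [Module S M] [IsScalarTower R S M]

theorem map_maximalIdeal_le [IsLocalRing R] [IsLocalRing S] [IsLocalHom (algebraMap R S)] :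
    (maximalIdeal R).map (algebraMap R S) ≤ maximalIdeal S :=
  Ideal.map_le_iff_le_comap.mpr fun _ hx => map_nonunit (algebraMap R S) _ hx

theorem map_maximalIdeal_le_jacobson [IsLocalRing R] [IsLocalRing S] [IsLocalHom (algebraMap R S)] :
    (maximalIdeal R).map (algebraMap R S) ≤ Ideal.jacobson (⊥ : Ideal S) :=
  map_maximalIdeal_le.trans (maximalIdeal_le_jacobson _)

/-- If `M` is `R`-flat then `IS ⊗_S M → M` is injective. -/
theorem lTensor_map_injective [Module.Flat R M] (I : Ideal R) :
    Injective ((I.map (algebraMap R S)).subtype.lTensor M) := by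
  let K := I.map (algebraMap R S)
  let f : M →ₗ[R] ↥I →ₗ[R] M ⊗[S] ↥K :=
    LinearMap.mk₂ R (fun m a => m ⊗ₜ[S] (⟨algebraMap R S a, Ideal.mem_map_of_mem _ a.2⟩ : ↥K))
      (fun m₁ m₂ a => add_tmul _ _ _)
      (fun c m a => (smul_tmul' c m _).symm)
      (fun m a b => by
        rw [← tmul_add]
        congr 1
        exact Subtype.ext (map_add (algebraMap R S) _ _))
      (fun c m a => by
        rw [← tmul_smul]
        congr 1
        refine Subtype.ext ?_
        simp [Algebra.smul_def])
  let φ := TensorProduct.lift f
  have hφ : Surjective φ := by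
    intro x
    induction x using TensorProduct.induction_on with
    | zero => exact ⟨0, map_zero _⟩
    | add a b ha hb =>
      obtain ⟨a, rfl⟩ := ha
      obtain ⟨b, rfl⟩ := hb
      exact ⟨a + b, map_add _ _ _⟩
    | tmul m k =>
      suffices H : ∀ (s : S) (hs : s ∈ K) (m : M), ∃ y, φ y = m ⊗ₜ[S] (⟨s, hs⟩ : ↥K) from H k.1 k.2 m
      intro s hs
      refine Submodule.span_induction (p := fun s hs => ∀ m : M, ∃ y, φ y = m ⊗ₜ[S] (⟨s, hs⟩ : ↥K))
        ?_ ?_ ?_ ?_ hs
      · rintro _ ⟨a, ha, rfl⟩ m
        exact ⟨m ⊗ₜ ⟨a, ha⟩, by simp [φ, f]⟩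
      · intro m
        exact ⟨0, by rw [map_zero]; exact (tmul_zero _ _).symm⟩
      · intro a b _ _ ha hb m
        obtain ⟨y, hy⟩ := ha m
        obtain ⟨z, hz⟩ := hb m
        exact ⟨y + z, by rw [map_add, hy, hz, ← tmul_add]; rfl⟩
      · intro c a _ ha m
        obtain ⟨y, hy⟩ := ha (c • m)
        exact ⟨y, by rw [hy, smul_tmul]; rfl⟩
  have key : ∀ y, TensorProduct.rid S M (K.subtype.lTensor M (φ y)) =
      TensorProduct.rid R M (I.subtype.lTensor M y) := fun y => by
    induction y using TensorProduct.induction_on with
    | zero => simp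
    | add a b ha hb => simp only [map_add, ha, hb]
    | tmul m a => simp [φ, f]
  intro x y hxy
  obtain ⟨x, rfl⟩ := hφ x
  obtain ⟨y, rfl⟩ := hφ y
  congr 1
  apply Module.Flat.lTensor_preserves_injective_linearMap I.subtype I.injective_subtype
  apply (TensorProduct.rid R M).injective
  rw [← key, ← key, hxy]

theorem flat_of_fibre_nilpotent [Module.Flat R M] (I : Ideal R) (hI : IsNilpotent I)
    (h : Module.Flat (S ⧸ I.map (algebraMap R S)) ((S ⧸ I.map (algebraMap R S)) ⊗[S] M)) :
    Module.Flat S M := by
  refine flat_of_isNilpotent (I.map (algebraMap R S)) ?_ (lTensor_map_injective I) h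
  obtain ⟨n, hn⟩ := hI
  refine ⟨n, ?_⟩
  rw [← Ideal.map_pow, hn]
  exact Ideal.map_bot

/-- Flatness descends along a module faithfully flat over the bigger ring. -/
theorem flat_of_faithfullyFlat [Module.FaithfullyFlat S M] [Module.Flat R M] : Module.Flat R S := by
  rw [Module.Flat.iff_lTensor_injective']
  intro J
  have h : Injective ((AlgebraTensorModule.lTensor S S J.subtype).lTensor M) := by
    let eJ := AlgebraTensorModule.cancelBaseChange R S S M J
    let eR := AlgebraTensorModule.cancelBaseChange R S S M R
    have key : ∀ x, eR ((AlgebraTensorModule.lTensor S S J.subtype).lTensor M x) =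
        J.subtype.lTensor M (eJ x) := fun x => by
      induction x using TensorProduct.induction_on with
      | zero => simp
      | add a b ha hb => simp only [map_add, ha, hb]
      | tmul m y =>
        induction y using TensorProduct.induction_on with
        | zero => simp
        | add a b ha hb => simp only [tmul_add, map_add, ha, hb]
        | tmul s j => simp [eR, eJ]
    intro x y hxy
    apply eJ.injective
    apply Module.Flat.lTensor_preserves_injective_linearMap J.subtype J.injective_subtype
    rw [← key, ← key, hxy]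
  exact (Module.FaithfullyFlat.lTensor_injective_iff_injective S M _).mp h

/-- A flat module which is finite over a local algebra and nonzero is faithfully flat. -/
theorem faithfullyFlat_of_finite [IsLocalRing R] [IsLocalRing S] [IsLocalHom (algebraMap R S)]
    [Module.Finite S M] [Nontrivial M] [Module.Flat R M] : Module.FaithfullyFlat R M := by
  rw [Module.FaithfullyFlat.iff_flat_and_ideal_smul_eq_top]
  refine ⟨inferInstance, fun I hI => ?_⟩
  by_contra hne
  apply top_ne_bot (α := Submodule S M)
  have h1 : (⊤ : Submodule S M) ≤ I.map (algebraMap R S) • ⊤ := by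
    intro x _
    have hx : x ∈ I • (⊤ : Submodule R M) := by rw [hI]; trivial
    refine Submodule.smul_induction_on hx ?_ fun a b ha hb => add_mem ha hb
    intro r hr m _
    rw [← IsScalarTower.algebraMap_smul S r m]
    exact Submodule.smul_mem_smul (Ideal.mem_map_of_mem _ hr) trivial
  exact Submodule.eq_bot_of_le_smul_of_le_jacobson_bot _ _ Module.Finite.fg_top h1
    ((Ideal.map_mono (le_maximalIdeal hne)).trans map_maximalIdeal_le_jacobson)

/-- The fibre criterion of flatness (Noetherian local version). -/
theorem fibre_criterion {S' : Type u} [CommRing S'] [Algebra S S'] [IsLocalRing R] [IsLocalRing S]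
    [IsLocalRing S'] [IsNoetherianRing S] [IsNoetherianRing S'] [Algebra R S'] [IsScalarTower R S S']
    [IsLocalHom (algebraMap R S)] [IsLocalHom (algebraMap S S')] [Module S' M]
    [IsScalarTower S S' M] [Module.Finite S' M] [Nontrivial M] [Module.Flat R M]
    (h : Module.Flat (S ⧸ (maximalIdeal R).map (algebraMap R S))
      ((S ⧸ (maximalIdeal R).map (algebraMap R S)) ⊗[S] M)) :
    Module.Flat R S ∧ Module.Flat S M := by
  haveI hSM : Module.Flat S M := by
    refine flat_of_localCriterion (S := S') ((maximalIdeal R).map (algebraMap R S)) ?_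
      (lTensor_map_injective _) h
    exact (Ideal.map_mono map_maximalIdeal_le).trans map_maximalIdeal_le_jacobson
  haveI : Module.FaithfullyFlat S M := faithfullyFlat_of_finite (S := S')
  exact ⟨flat_of_faithfullyFlat (M := M), hSM⟩

end GrothLib.Flatness
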