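import Groth.Agent.Lib.Flatness.Good
import Mathlib.RingTheory.Filtration
import Mathlib.Algebra.Module.Torsion.Basic
import Mathlib.LinearAlgebra.TensorProduct.Tower
import Mathlib.LinearAlgebra.DirectSum.Finsupp
import Mathlib.LinearAlgebra.TensorProduct.Pi
import Mathlib.RingTheory.TensorProduct.Basic

/-!
# The local criterion of flatness
-/

universe u

namespace GrothLib.Flatness

open TensorProduct Function

variable {R : Type u} [CommRing R] {M : Type u} [AddCommGroup M] [Module R M]

/-- If `M/IM` is flat over `R/I`, tensoring with `M` keeps injective maps of `I`-torsion modules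
injective. -/
theorem lTensor_injective_of_flat_quotient (I : Ideal R)
    (h : Module.Flat (R ⧸ I) ((R ⧸ I) ⊗[R] M)) {A B : Type u} [AddCommGroup A] [Module R A]
    [AddCommGroup B] [Module R B] (hA : Module.IsTorsionBySet R A I)
    (hB : Module.IsTorsionBySet R B I) (f : A →ₗ[R] B) (hf : Injective f) :
    Injective (f.lTensor M) := by
  letI := hA.module
  letI := hB.module
  haveI : IsScalarTower R (R ⧸ I) A := hA.isScalarTower
  haveI : IsScalarTower R (R ⧸ I) B := hB.isScalarTower
  let f' : A →ₗ[R ⧸ I] B :=
    { toFun := f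
      map_add' := f.map_add
      map_smul' := fun r a => by
        obtain ⟨r, rfl⟩ := Ideal.Quotient.mk_surjective r
        exact f.map_smul r a }
  have h1 : Injective (f'.rTensor ((R ⧸ I) ⊗[R] M)) :=
    Module.Flat.rTensor_preserves_injective_linearMap f' hf
  rw [LinearMap.lTensor_inj_iff_rTensor_inj]
  let eA := AlgebraTensorModule.cancelBaseChange R (R ⧸ I) (R ⧸ I) A M
  let eB := AlgebraTensorModule.cancelBaseChange R (R ⧸ I) (R ⧸ I) B M
  have key : ∀ x, eB (f'.rTensor _ x) = f.rTensor M (eA x) := fun x => by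
    induction x using TensorProduct.induction_on with
    | zero => simp
    | add x y hx hy => simp only [map_add, hx, hy]
    | tmul a y =>
      induction y using TensorProduct.induction_on with
      | zero => simp
      | add x y hx hy => simp only [tmul_add, map_add, hx, hy]
      | tmul r m =>
        simp only [eA, eB, LinearMap.rTensor_tmul, AlgebraTensorModule.cancelBaseChange_tmul]
        exact congrArg (fun z => z ⊗ₜ[R] m) (f'.map_smul r a).symm
  intro x y hxy
  obtain ⟨x, rfl⟩ := eA.surjective x
  obtain ⟨y, rfl⟩ := eA.surjective y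
  rw [← key, ← key] at hxy
  rw [h1 (eB.injective hxy)]

theorem good_quotient (I : Ideal R) (h1 : Injective (I.subtype.lTensor M)) : Good R M (R ⧸ I) :=
  Good.of_presentation I.subtype I.mkQ I.injective_subtype I.mkQ_surjective
    (LinearMap.exact_subtype_mkQ I) Good.of_projective h1

theorem finsupp_mapRange_lTensor_injective {ι : Type u} {A B : Type u} [AddCommGroup A]
    [Module R A] [AddCommGroup B] [Module R B] (f : A →ₗ[R] B) (h : Injective (f.lTensor M)) :
    Injective ((Finsupp.mapRange.linearMap (α := ι) f).lTensor M) := by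
  classical
  let eA := TensorProduct.finsuppRight R R M A ι
  let eB := TensorProduct.finsuppRight R R M B ι
  have key : ∀ x, eB ((Finsupp.mapRange.linearMap (α := ι) f).lTensor M x) =
      Finsupp.mapRange.linearMap (f.lTensor M) (eA x) := fun x => by
    induction x using TensorProduct.induction_on with
    | zero => simp
    | add x y hx hy => simp only [map_add, hx, hy]
    | tmul m a =>
      ext i
      simp [eA, eB, TensorProduct.finsuppRight_apply_tmul_apply]
  intro x y hxy
  apply eA.injective
  refine Finsupp.mapRange_injective (f.lTensor M) (map_zero _) h ?_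
  have := congrArg eB hxy
  rwa [key, key] at this

/-- The local criterion, first step: modules killed by `I` are good. -/
theorem good_of_isTorsionBySet (I : Ideal R) (h1 : Injective (I.subtype.lTensor M))
    (h2 : Module.Flat (R ⧸ I) ((R ⧸ I) ⊗[R] M)) (N : Type u) [AddCommGroup N] [Module R N]
    (hN : Module.IsTorsionBySet R N I) : Good R M N := by
  -- `N →₀ R/I` is good
  have hF : Good R M (N →₀ R ⧸ I) := by
    refine Good.of_presentation (Finsupp.mapRange.linearMap (α := N) I.subtype)
      (Finsupp.mapRange.linearMap I.mkQ)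
      (Finsupp.mapRange_injective _ (map_zero _) I.injective_subtype)
      (Finsupp.mapRange_surjective _ (map_zero _) I.mkQ_surjective) ?_ Good.of_projective
      (finsupp_mapRange_lTensor_injective _ h1)
    intro x
    constructor
    · intro hx
      have hmem : ∀ i, x i ∈ I := fun i => by
        have := DFunLike.congr_fun hx i
        simpa [Ideal.Quotient.eq_zero_iff_mem] using this
      classical
      exact ⟨Finsupp.onFinset x.support (fun i => ⟨x i, hmem i⟩) fun i hi => by
        simp only [Finsupp.mem_support_iff]; intro h; exact hi (Subtype.ext h), by ext; simp⟩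
    · rintro ⟨y, rfl⟩
      ext i
      exact (Ideal.Quotient.eq_zero_iff_mem).mpr (y i).2
  letI := hN.module
  haveI : IsScalarTower R (R ⧸ I) N := hN.isScalarTower
  let q : (N →₀ R ⧸ I) →ₗ[R] N := (Finsupp.linearCombination (R ⧸ I) id).restrictScalars R
  refine Good.of_presentation (K := ↥(LinearMap.ker q)) (Submodule.subtype _) q
    (Submodule.injective_subtype _) (fun n => ⟨Finsupp.single n 1, by simp [q]⟩)
    (LinearMap.exact_subtype_ker_map q) hF ?_
  have ht : Module.IsTorsionBySet R (N →₀ R ⧸ I) I := fun x a => by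
    refine Finsupp.ext fun i => ?_
    rw [Finsupp.smul_apply, Finsupp.zero_apply, Algebra.smul_def]
    have : algebraMap R (R ⧸ I) (a : R) = 0 := Ideal.Quotient.eq_zero_iff_mem.mpr a.2
    rw [this, zero_mul]
  exact lTensor_injective_of_flat_quotient I h2
    (fun x a => Subtype.ext (@ht x.1 a)) ht _ (Submodule.injective_subtype _)

/-- The local criterion: modules killed by a power of `I` are good. -/
theorem good_of_pow (I : Ideal R) (h1 : Injective (I.subtype.lTensor M))
    (h2 : Module.Flat (R ⧸ I) ((R ⧸ I) ⊗[R] M)) (n : ℕ) (N : Type u) [AddCommGroup N]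
    [Module R N] (hN : Module.IsTorsionBySet R N (I ^ n : Ideal R)) : Good R M N := by
  induction n generalizing N with
  | zero =>
    refine good_of_isTorsionBySet I h1 h2 N fun x a => ?_
    have : x = 0 := by simpa using @hN x ⟨1, by simp⟩
    simp [this]
  | succ n ih =>
    let N₁ : Submodule R N := I • ⊤
    refine Good.extension N₁.subtype N₁.mkQ N₁.injective_subtype N₁.mkQ_surjective
      (LinearMap.exact_subtype_mkQ N₁) (ih N₁ ?_) (good_of_isTorsionBySet I h1 h2 _ ?_)
    · rintro ⟨x, hx⟩ a
      refine Subtype.ext ?_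
      show (a : R) • x = 0
      refine Submodule.smul_induction_on hx ?_ ?_
      · intro b hb y _
        rw [smul_smul]
        exact @hN y ⟨a * b, by rw [pow_succ]; exact Ideal.mul_mem_mul a.2 hb⟩
      · intro y z hy hz
        rw [smul_add, hy, hz, add_zero]
    · intro x a
      obtain ⟨y, rfl⟩ := N₁.mkQ_surjective x
      rw [← map_smul]
      exact (Submodule.Quotient.mk_eq_zero _).mpr (Submodule.smul_mem_smul a.2 trivial)

/-- Local criterion for a nilpotent ideal: no finiteness needed. -/
theorem flat_of_isNilpotent (I : Ideal R) (hI : IsNilpotent I)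
    (h1 : Injective (I.subtype.lTensor M))
    (h2 : Module.Flat (R ⧸ I) ((R ⧸ I) ⊗[R] M)) : Module.Flat R M := by
  obtain ⟨n, hn⟩ := hI
  refine flat_of_good fun J _ => good_of_pow I h1 h2 n _ fun x a => ?_
  have h0 : (a : R) = 0 := by simpa using (SetLike.ext_iff.mp hn (a : R)).mp a.2
  rw [h0, zero_smul]

section Finite

variable {S : Type u} [CommRing S] [Algebra R S] [Module S M] [IsScalarTower R S M]

theorem finite_tensor [Module.Finite S M] (J : Type u) [AddCommGroup J] [Module R J]
    [Module.Finite R J] : Module.Finite S (M ⊗[R] J) := by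
  classical
  obtain ⟨k, f, hf⟩ := Module.Finite.exists_fin' R J
  haveI : Module.Finite S (M ⊗[R] (Fin k → R)) :=
    Module.Finite.equiv (TensorProduct.piScalarRight R S M (Fin k)).symm
  exact Module.Finite.of_surjective (AlgebraTensorModule.lTensor S M f)
    (LinearMap.lTensor_surjective M hf)

/-- Flatness criterion: it is enough that `M ⊗ -` is exact on modules killed by powers of `I`. -/
theorem flat_of_forall_pow [IsNoetherianRing R] [IsNoetherianRing S] [Module.Finite S M]
    (I : Ideal R) (hI : I.map (algebraMap R S) ≤ Ideal.jacobson ⊥)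
    (h : ∀ (n : ℕ) (A B : Type u) [AddCommGroup A] [Module R A] [AddCommGroup B] [Module R B]
      (f : A →ₗ[R] B), Module.IsTorsionBySet R A (I ^ n : Ideal R) →
      Module.IsTorsionBySet R B (I ^ n : Ideal R) → Injective f → Injective (f.lTensor M)) :
    Module.Flat R M := by
  rw [Module.Flat.iff_lTensor_injective']
  intro J
  rw [injective_iff_map_eq_zero]
  intro x hx
  haveI := finite_tensor (R := R) (S := S) (M := M) J
  set 𝔞 := I.map (algebraMap R S) with h𝔞
  suffices H : x ∈ (⨅ i : ℕ, 𝔞 ^ i • ⊤ : Submodule S (M ⊗[R] J)) by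
    rwa [Ideal.iInf_pow_smul_eq_bot_of_le_jacobson _ hI, Submodule.mem_bot] at H
  rw [Submodule.mem_iInf]
  intro m
  obtain ⟨k, hk⟩ := Ideal.exists_pow_inf_eq_pow_smul I (M := R) J
  let D : Submodule R J := Submodule.comap J.subtype (I ^ (m + k))
  let g : (↥J ⧸ D) →ₗ[R] R ⧸ I ^ (m + k) := D.mapQ _ J.subtype le_rfl
  have hg : Injective g := by
    rw [← LinearMap.ker_eq_bot, eq_bot_iff]
    intro y hy
    obtain ⟨y, rfl⟩ := D.mkQ_surjective y
    have : (y : R) ∈ I ^ (m + k) := by simpa [g, Submodule.mapQ_apply, Submodule.Quotient.mk_eq_zero, Ideal.Quotient.eq_zero_iff_mem] using hy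
    simpa [Submodule.Quotient.mk_eq_zero, D] using this
  have htA : Module.IsTorsionBySet R (↥J ⧸ D) (I ^ (m + k) : Ideal R) := fun y a => by
    obtain ⟨y, rfl⟩ := D.mkQ_surjective y
    rw [← map_smul]
    exact (Submodule.Quotient.mk_eq_zero _).mpr
      (show (a : R) * (y : R) ∈ _ from Ideal.mul_mem_right _ _ a.2)
  have htB : Module.IsTorsionBySet R (R ⧸ I ^ (m + k)) (I ^ (m + k) : Ideal R) := fun y a => by
    obtain ⟨y, rfl⟩ := Ideal.Quotient.mk_surjective y
    exact (Ideal.Quotient.eq_zero_iff_mem).mpr (Ideal.mul_mem_right _ _ a.2)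
  have hq : D.mkQ.lTensor M x = 0 := by
    apply h (m + k) _ _ g htA htB hg
    rw [← LinearMap.lTensor_comp_apply, show g ∘ₗ D.mkQ = (I ^ (m + k)).mkQ ∘ₗ J.subtype from rfl,
      LinearMap.lTensor_comp_apply, hx, map_zero, map_zero]
  obtain ⟨z, rfl⟩ := (lTensor_exact M (LinearMap.exact_subtype_mkQ D) D.mkQ_surjective x).mp hq
  have hD : Submodule.map J.subtype D ≤ I ^ m • J := by
    rintro _ ⟨y, hy, rfl⟩
    have h' : (y : R) ∈ I ^ (m + k) • (⊤ : Submodule R R) ⊓ J :=
      ⟨by rw [smul_eq_mul, Ideal.mul_top]; exact hy, y.2⟩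
    rw [hk (m + k) (Nat.le_add_left k m), Nat.add_sub_cancel] at h'
    exact Submodule.smul_mono le_rfl inf_le_right h'
  have hD' : ∀ d : D, (d : ↥J) ∈ I ^ m • (⊤ : Submodule R ↥J) := fun d => by
    have h' : J.subtype d ∈ Submodule.map J.subtype (I ^ m • ⊤) := by
      rw [Submodule.map_smul'', Submodule.map_top, Submodule.range_subtype]
      exact hD ⟨_, d.2, rfl⟩
    obtain ⟨e, he, he'⟩ := h'
    rwa [← J.injective_subtype he']
  clear hx hq
  induction z using TensorProduct.induction_on with
  | zero => simp
  | add a b ha hb =>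
    rw [map_add]
    exact add_mem ha hb
  | tmul n d =>
    rw [LinearMap.lTensor_tmul]
    refine Submodule.smul_induction_on (p := fun j => n ⊗ₜ[R] j ∈ 𝔞 ^ m • (⊤ : Submodule S (M ⊗[R] ↥J)))
      (hD' d) ?_ ?_
    · intro r hr j _
      rw [TensorProduct.tmul_smul, ← IsScalarTower.algebraMap_smul S r (n ⊗ₜ[R] j)]
      refine Submodule.smul_mem_smul ?_ trivial
      rw [h𝔞, ← Ideal.map_pow]
      exact Ideal.mem_map_of_mem _ hr
    · intro a b ha hb
      rw [tmul_add]
      exact add_mem ha hb

/-- **Local criterion of flatness**. -/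
theorem flat_of_localCriterion [IsNoetherianRing R] [IsNoetherianRing S] [Module.Finite S M]
    (I : Ideal R) (hI : I.map (algebraMap R S) ≤ Ideal.jacobson ⊥)
    (h1 : Injective (I.subtype.lTensor M))
    (h2 : Module.Flat (R ⧸ I) ((R ⧸ I) ⊗[R] M)) : Module.Flat R M :=
  flat_of_forall_pow (S := S) I hI fun n A B _ _ _ _ f _ hB hf =>
    Good.lTensor_injective f hf (good_of_pow I h1 h2 n _ fun x a => by
      obtain ⟨y, rfl⟩ := Submodule.mkQ_surjective _ x
      rw [← map_smul, @hB y a, map_zero])

end Finite

end GrothLib.Flatness
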