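import Groth.Agent.Lib.Flatness.Good
import Mathlib.CategoryTheory.Monoidal.Tor
import Mathlib.Algebra.Category.ModuleCat.Monoidal.Basic
import Mathlib.Algebra.Category.ModuleCat.Projective
import Mathlib.Algebra.Homology.ShortComplex.ModuleCat
import Mathlib.RingTheory.Ideal.AssociatedPrime.Finiteness

/-!
# `Tor₁` and flatness over noetherian rings
-/

universe u

open CategoryTheory TensorProduct

namespace GrothLib.Flatness

variable (R : Type u) [CommRing R] (M N : Type u) [AddCommGroup M] [Module R M] [AddCommGroup N] [Module R N]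

theorem isZero_tor_one_iff_good :
    Limits.IsZero (((CategoryTheory.Tor (ModuleCat.{u} R) 1).obj (ModuleCat.of R M)).obj (ModuleCat.of R N)) ↔
      Good R M N := by
  let P := projectiveResolution (ModuleCat.of R N)
  let G := (MonoidalCategory.tensoringLeft (ModuleCat.{u} R)).obj (ModuleCat.of R M)
  let C := (G.mapHomologicalComplex (ComplexShape.down ℕ)).obj P.complex
  let e : ((CategoryTheory.Tor (ModuleCat.{u} R) 1).obj (ModuleCat.of R M)).obj (ModuleCat.of R N) ≅ C.homology 1 :=
    P.isoLeftDerivedObj G 1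
  rw [e.isZero_iff, ← HomologicalComplex.exactAt_iff_isZero_homology,
    HomologicalComplex.exactAt_iff' C 2 1 0 (by simp) (by simp), ShortComplex.moduleCat_exact_iff]
  let d₂ : P.complex.X 2 →ₗ[R] P.complex.X 1 := (P.complex.d 2 1).hom
  let d₁ : P.complex.X 1 →ₗ[R] P.complex.X 0 := (P.complex.d 1 0).hom
  let q : P.complex.X 0 →ₗ[R] N := (P.π.f 0).hom
  have hq : Function.Surjective q := (ModuleCat.epi_iff_surjective _).1 (inferInstance : Epi (P.π.f 0))
  have hdq : Function.Exact d₁ q := fun x => ⟨fun hx => (ShortComplex.moduleCat_exact_iff _).1 P.exact₀ x hx, by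
    rintro ⟨y, rfl⟩
    exact congrArg (fun f => f.hom y) P.complex_d_comp_π_f_zero⟩
  have hdd : Function.Exact d₂ d₁ := fun x => ⟨fun hx => by
    have h1 := P.complex_exactAt_succ 0
    rw [HomologicalComplex.exactAt_iff' _ 2 1 0 (by simp) (by simp), ShortComplex.moduleCat_exact_iff] at h1
    exact h1 x hx, by
    rintro ⟨y, rfl⟩
    exact congrArg (fun f => f.hom y) (P.complex.d_comp_d 2 1 0)⟩
  change (∀ x : M ⊗[R] P.complex.X 1, d₁.lTensor M x = 0 → ∃ y : M ⊗[R] P.complex.X 2, d₂.lTensor M y = x) ↔ _
  let K := LinearMap.range d₁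
  let d' : P.complex.X 1 →ₗ[R] K := d₁.rangeRestrict
  have hd' : Function.Surjective d' := d₁.surjective_rangeRestrict
  have hd'ex : Function.Exact d₂ d' := fun x => by
    rw [← hdd x]
    exact ⟨fun h => congrArg Subtype.val h, fun h => Subtype.ext h⟩
  have hcomp : d₁.lTensor M = K.subtype.lTensor M ∘ₗ d'.lTensor M := by
    rw [← LinearMap.lTensor_comp]
    rfl
  have hKq : Function.Exact K.subtype q := fun x => by
    rw [hdq x]
    exact ⟨fun ⟨y, hy⟩ => ⟨⟨x, y, hy⟩, rfl⟩, fun ⟨⟨z, hz⟩, e⟩ => e ▸ hz⟩
  constructor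
  · intro h
    haveI : Module.Projective R (P.complex.X 0) := (IsProjective.iff_projective _).2 (P.projective 0)
    refine Good.of_presentation K.subtype q K.injective_subtype hq hKq Good.of_projective
      ((injective_iff_map_eq_zero _).2 fun y hy => ?_)
    obtain ⟨x, rfl⟩ := LinearMap.lTensor_surjective M hd' y
    obtain ⟨z, rfl⟩ := h x (by rw [hcomp]; exact hy)
    exact ((lTensor_exact M hd'ex hd') _).2 ⟨z, rfl⟩
  · intro h x hx
    rw [hcomp] at hx
    exact ((lTensor_exact M hd'ex hd') x).1 (h K (P.complex.X 0) K.subtype q K.injective_subtype hq hKq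
      (hx.trans (map_zero _).symm))

/-- Over a noetherian ring flatness can be tested on quotients by primes. -/
theorem flat_iff_forall_prime_good [IsNoetherianRing R] :
    Module.Flat R M ↔ ∀ p : Ideal R, p.IsPrime → Good R M (R ⧸ p) := by
  constructor
  · intro h p _ A B _ _ _ _ i q hi _ _
    exact Module.Flat.lTensor_preserves_injective_linearMap i hi
  · intro h
    refine flat_of_good fun I _ => ?_
    refine IsNoetherianRing.induction_on_isQuotientEquivQuotientPrime R
      (M := R ⧸ I) inferInstance (motive := fun N _ _ _ => Good R M N) (fun N _ _ _ _ => ?_) (fun N _ _ _ p e => ?_)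
      fun N₁ _ _ _ N₂ _ _ _ N₃ _ _ _ f g hf hg hfg h₁ h₃ => Good.extension f g hf hg hfg h₁ h₃
    · exact Good.of_projective
    · exact Good.of_equiv e.symm (h p.1 p.2)

end GrothLib.Flatness
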